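import Cfsg.Agent.Lib.OddLocal.FrobeniusAction

/-!
# Frobenius groups acting coprimely on solvable groups: the general fixed point formula
-/

set_option autoImplicit false
set_option maxHeartbeats 1000000
set_option linter.all false

namespace Cfsg.Agent.FrobFixed

open Cfsg OddLocal
open scoped IsMulCommutative

universe u

theorem centralizer_sup {X : Type*} [Group X] (U R : Subgroup X) :
    Subgroup.centralizer ((U ⊔ R : Subgroup X) : Set X) =
      Subgroup.centralizer (U : Set X) ⊓ Subgroup.centralizer (R : Set X) := by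
  refine le_antisymm (le_inf (Subgroup.centralizer_le (SetLike.coe_subset_coe.mpr le_sup_left))
    (Subgroup.centralizer_le (SetLike.coe_subset_coe.mpr le_sup_right))) ?_
  exact Subgroup.le_centralizer_iff.mp
    (sup_le (Subgroup.le_centralizer_iff.mp inf_le_left) (Subgroup.le_centralizer_iff.mp inf_le_right))

/-- The formula for an elementary abelian group. -/
theorem ea_general {X : Type u} [Group X] [Finite X] {p : ℕ} [hp : Fact p.Prime] {K R V : Subgroup X}
    (hKs : Group.IsSolvable K) (hRK : R ≤ Subgroup.normalizer (K : Set X))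
    (hfrob : ∀ x ∈ R, x ≠ 1 → ∀ k ∈ K, x * k = k * x → k = 1)
    (hpK : ¬ p ∣ Nat.card K) (hpR : ¬ p ∣ Nat.card R) (hV : IsElementaryAbelian p V)
    (hKV : K ≤ Subgroup.normalizer (V : Set X)) (hRV : R ≤ Subgroup.normalizer (V : Set X)) :
    Nat.card ↥(V ⊓ Subgroup.centralizer ((K ⊔ R : Subgroup X) : Set X)) ^ Nat.card R * Nat.card V =
      Nat.card ↥(V ⊓ Subgroup.centralizer (R : Set X)) ^ Nat.card R *
        Nat.card ↥(V ⊓ Subgroup.centralizer (K : Set X)) := by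
  haveI := hV.1
  set V₀ := V ⊓ Subgroup.centralizer (K : Set X) with hV₀
  set V₁ := ⁅V, K⁆ with hV₁
  have hVp : IsPGroup p V := fun v => ⟨1, by rw [pow_one]; exact Subtype.ext (hV.2 v v.2)⟩
  have hcop : (Nat.card K).Coprime (Nat.card V) := by
    obtain ⟨k, hk⟩ := hVp.exists_card_eq
    rw [hk]
    exact ((hp.out.coprime_iff_not_dvd).mpr hpK).symm.pow_right k
  have hV₁le : V₁ ≤ V := Subgroup.le_normalizer_iff_commutator_le_left.mp hKV
  have hsup : V₁ ⊔ V₀ = V := Basics.commutator_sup_inf_centralizer K V hKV hcop (Or.inr inferInstance)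
  have hinf : V₁ ⊓ V₀ = ⊥ := by rw [inf_comm]; exact Basics.inf_centralizer_inf_commutator_eq_bot K V hKV hcop
  have hn0 : ∀ {B : Subgroup X}, B ≤ Subgroup.normalizer (V : Set X) → B ≤ Subgroup.normalizer (K : Set X) →
      B ≤ Subgroup.normalizer (V₀ : Set X) ∧ B ≤ Subgroup.normalizer (V₁ : Set X) := fun h1 h2 =>
    ⟨(le_inf h1 h2).trans normalizer_le_normalizer_inf_centralizer, (le_inf h1 h2).trans normalizer_le_normalizer_commutator⟩
  obtain ⟨hKV0, hKV1⟩ := hn0 hKV Subgroup.le_normalizer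
  obtain ⟨hRV0, hRV1⟩ := hn0 hRV hRK
  have hfix1 : V₁ ⊓ Subgroup.centralizer (K : Set X) = ⊥ :=
    le_bot_iff.mp (hinf ▸ le_inf inf_le_left (inf_le_inf_right _ hV₁le))
  have hE1 : IsElementaryAbelian p V₁ :=
    ⟨⟨⟨fun a b => Subtype.ext (congrArg Subtype.val (mul_comm' (⟨a, hV₁le a.2⟩ : V) ⟨b, hV₁le b.2⟩) :)⟩⟩,
      fun a ha => hV.2 a (hV₁le ha)⟩
  obtain ⟨h1, -⟩ := ea_case hKs hRK hfrob hpK hpR _ V₁ rfl hE1 hKV1 hRV1 hfix1
  have hn01 : V₀ ≤ Subgroup.normalizer (V₁ : Set X) := fun b hb =>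
    Subgroup.centralizer_le_normalizer _ (Subgroup.mem_centralizer_iff.mpr fun a ha =>
      congrArg Subtype.val (mul_comm' (⟨a, hV₁le ha⟩ : V) ⟨b, hb.1⟩))
  have hcardV : Nat.card V = Nat.card V₁ * Nat.card V₀ := by
    have h := Basics.card_mul_card_eq_card_sup_mul_card_inf hn01
    rw [hsup, hinf, Subgroup.card_bot, mul_one] at h
    exact h.symm
  have hsplit := inf_centralizer_split hsup hinf hRV0 hRV1
  rw [centralizer_sup, ← inf_assoc, ← hV₀, hcardV, h1, hsplit, mul_pow]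
  ring

/-- The general formula. -/
theorem frobenius_card_general : ∀ (n : ℕ) {X : Type u} [Group X] [Finite X] (K R M : Subgroup X), Nat.card M = n →
    Group.IsSolvable K → Group.IsSolvable M → R ≤ Subgroup.normalizer (K : Set X) →
    (∀ x ∈ R, x ≠ 1 → ∀ k ∈ K, x * k = k * x → k = 1) →
    (Nat.card ↥(K ⊔ R)).Coprime (Nat.card M) →
    K ≤ Subgroup.normalizer (M : Set X) → R ≤ Subgroup.normalizer (M : Set X) →
    Nat.card ↥(M ⊓ Subgroup.centralizer ((K ⊔ R : Subgroup X) : Set X)) ^ Nat.card R * Nat.card M =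
      Nat.card ↥(M ⊓ Subgroup.centralizer (R : Set X)) ^ Nat.card R *
        Nat.card ↥(M ⊓ Subgroup.centralizer (K : Set X)) := by
  intro n
  induction n using Nat.strong_induction_on with
  | _ n ih =>
  intro X _ _ K R M hn hKs hMs hRK hfrob hKRM hKN hRN
  rcases eq_or_ne M ⊥ with rfl | hM1
  · simp
  have hKM : (Nat.card K).Coprime (Nat.card M) := hKRM.coprime_dvd_left (Subgroup.card_dvd_of_le le_sup_left)
  have hRM : (Nat.card R).Coprime (Nat.card M) := hKRM.coprime_dvd_left (Subgroup.card_dvd_of_le le_sup_right)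
  obtain ⟨p, E, hp, hpM, hE1, hEM, hE, hNE⟩ := exists_ea_invariant hMs hM1
  haveI := Fact.mk hp
  have hnd : ∀ {B : Subgroup X}, (Nat.card B).Coprime (Nat.card M) → ¬ p ∣ Nat.card B := fun h hd =>
    hp.one_lt.ne' (Nat.eq_one_of_dvd_coprimes h hd hpM)
  have hEcard := ea_general hKs hRK hfrob (hnd hKM) (hnd hRM) hE (hKN.trans hNE) (hRN.trans hNE)
  set Γ := Subgroup.normalizer (E : Set X) with hΓ
  have hMΓ : M ≤ Γ := Subgroup.le_normalizer.trans hNE
  have hKΓ : K ≤ Γ := hKN.trans hNE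
  have hRΓ : R ≤ Γ := hRN.trans hNE
  haveI : (E.subgroupOf Γ).Normal := Subgroup.normal_subgroupOf_iff_le_normalizer Subgroup.le_normalizer |>.mpr le_rfl
  let f := QuotientGroup.mk' (E.subgroupOf Γ)
  have hfker : ∀ (x : Γ), f x = 1 ↔ (x : X) ∈ E := fun x => (QuotientGroup.eq_one_iff x).trans Iff.rfl
  have hinj : ∀ {B : Subgroup X}, (Nat.card B).Coprime (Nat.card M) → ∀ x : Γ, (x : X) ∈ B → f x = 1 → x = 1 := by
    intro B hB x hx h
    refine Subtype.ext (orderOf_eq_one_iff.mp (Nat.eq_one_of_dvd_coprimes hB (Subgroup.orderOf_dvd_natCard B hx)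
      ((Subgroup.orderOf_dvd_natCard E ((hfker x).mp h)).trans (Subgroup.card_dvd_of_le hEM))))
  have hcd : ∀ {B : Subgroup X}, B ≤ Γ → Nat.card ((B.subgroupOf Γ).map f) ∣ Nat.card B := fun hB =>
    (Subgroup.card_map_dvd _ f).trans (Nat.card_congr (Subgroup.subgroupOfEquivOfLe hB).toEquiv).dvd
  have hcardeq : ∀ {B : Subgroup X}, B ≤ Γ → Nat.card B = Nat.card ↥(B ⊓ E) * Nat.card ((B.subgroupOf Γ).map f) := by
    intro B hB
    rw [← Nat.card_congr (Subgroup.subgroupOfEquivOfLe hB).toEquiv, card_eq_card_inf_mul_card_map f (B.subgroupOf Γ)]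
    congr 1
    rw [QuotientGroup.ker_mk', show B.subgroupOf Γ ⊓ E.subgroupOf Γ = (B ⊓ E).subgroupOf Γ from (Subgroup.comap_inf B E Γ.subtype).symm, Nat.card_congr (Subgroup.subgroupOfEquivOfLe (inf_le_left.trans hB)).toEquiv]
  set Mb := (M.subgroupOf Γ).map f with hMb
  set Kb := (K.subgroupOf Γ).map f with hKb
  set Rb := (R.subgroupOf Γ).map f with hRb
  have hRcard : Nat.card Rb = Nat.card R := by
    have h := hcardeq hRΓ
    rw [show R ⊓ E = ⊥ from (Subgroup.disjoint_of_coprime_natCard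
      (hRM.coprime_dvd_right (Subgroup.card_dvd_of_le hEM))).eq_bot, Subgroup.card_bot, one_mul] at h
    exact h.symm
  have hMcard : Nat.card M = Nat.card E * Nat.card Mb := by
    have h := hcardeq hMΓ
    rwa [inf_eq_right.mpr hEM] at h
  have hlt : Nat.card Mb < n := by
    rw [← hn, hMcard]
    exact lt_mul_left Nat.card_pos ((Subgroup.one_lt_card_iff_ne_bot E).mpr hE1)
  have hnorm : ∀ {B C : Subgroup X}, B ≤ Γ → C ≤ Γ → B ≤ Subgroup.normalizer (C : Set X) →
      (B.subgroupOf Γ).map f ≤ Subgroup.normalizer (((C.subgroupOf Γ).map f : Subgroup _) : Set _) := by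
    intro B C _ hC h
    refine (Subgroup.map_mono ?_).trans (Subgroup.le_normalizer_map _)
    intro b hb
    rw [← Subgroup.subgroupOf_normalizer_eq hC, Subgroup.mem_subgroupOf]
    exact h hb
  -- fixed points lift
  have hlift : ∀ {B : Subgroup X}, B ≤ Γ → B ≤ Subgroup.normalizer (M : Set X) → (Nat.card B).Coprime (Nat.card M) →
      Mb ⊓ Subgroup.centralizer (((B.subgroupOf Γ).map f : Subgroup _) : Set _) =
        (((M ⊓ Subgroup.centralizer (B : Set X)).subgroupOf Γ).map f) := by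
    intro B hBΓ hBN hBM
    refine le_antisymm ?_ ?_
    · rintro _ ⟨⟨m, hm, rfl⟩, hc⟩
      obtain ⟨c, hc', hcm⟩ := Basics.exists_inf_centralizer_mem_coset B M E hEM hMΓ hBΓ hBM (Or.inr hMs) (m : X) hm
        (fun b hb => by
          refine (hfker (⟨b, hBΓ hb⟩ * m * (⟨b, hBΓ hb⟩ : Γ)⁻¹ * m⁻¹)).mp ?_
          rw [map_mul, map_mul, map_mul, map_inv, map_inv,
            Subgroup.mem_centralizer_iff.mp hc (f ⟨b, hBΓ hb⟩) ⟨_, hb, rfl⟩, mul_inv_cancel_right, mul_inv_cancel])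
      exact ⟨⟨c, hMΓ hc'.1⟩, hc', (QuotientGroup.eq.mpr (show m⁻¹ * ⟨c, hMΓ hc'.1⟩ ∈ E.subgroupOf Γ from hcm)).symm⟩
    · rintro _ ⟨m, hm, rfl⟩
      refine Subgroup.mem_inf.mpr ⟨⟨m, hm.1, rfl⟩, Subgroup.mem_centralizer_iff.mpr ?_⟩
      rintro _ ⟨b, hb, rfl⟩
      rw [← map_mul, ← map_mul]
      exact congrArg f (Subtype.ext (Subgroup.mem_centralizer_iff.mp hm.2 b hb))
  haveI hKbs : Group.IsSolvable Kb := Basics.isSolvable_map f (Basics.isSolvable_subgroupOf hKΓ hKs)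
  have hKRΓ : K ⊔ R ≤ Γ := sup_le hKΓ hRΓ
  have hsupb : ((K ⊔ R).subgroupOf Γ).map f = Kb ⊔ Rb := by
    rw [Subgroup.subgroupOf_sup hKΓ hRΓ, Subgroup.map_sup]
  have hIH := ih _ hlt Kb Rb Mb rfl hKbs (Basics.isSolvable_map f (Basics.isSolvable_subgroupOf hMΓ hMs))
    (hnorm hRΓ hKΓ hRK) (by
      rintro _ ⟨x, hx, rfl⟩ hx1 _ ⟨k, hk, rfl⟩ hxk
      have h1 : f (x * k * x⁻¹ * k⁻¹) = 1 := by
        rw [map_mul, map_mul, map_mul, map_inv, map_inv, hxk, mul_inv_cancel_right, mul_inv_cancel]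
      have h2 := hinj hKM (x * k * x⁻¹ * k⁻¹) (K.mul_mem ((Subgroup.mem_normalizer_iff.mp (hRK hx) _).mp hk) (K.inv_mem hk)) h1
      have hxne : (x : X) ≠ 1 := fun e => hx1 (by rw [show x = 1 from Subtype.ext e, map_one])
      rw [show k = 1 from Subtype.ext (hfrob x hx hxne k hk
        (mul_inv_eq_iff_eq_mul.mp (mul_inv_eq_one.mp (congrArg Subtype.val h2)))), map_one])
    (by rw [← hsupb]; exact (hKRM.coprime_dvd_left (hcd hKRΓ)).coprime_dvd_right (hcd hMΓ))
    (hnorm hKΓ hMΓ hKN) (hnorm hRΓ hMΓ hRN)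
  rw [hRcard, ← hsupb, hlift hKRΓ (sup_le hKN hRN) hKRM, hlift hRΓ hRN hRM, hlift hKΓ hKN hKM] at hIH
  have hC : ∀ B : Subgroup X, Nat.card ↥(M ⊓ Subgroup.centralizer (B : Set X)) =
      Nat.card ↥(E ⊓ Subgroup.centralizer (B : Set X)) *
      Nat.card (((M ⊓ Subgroup.centralizer (B : Set X)).subgroupOf Γ).map f) := fun B => by
    rw [hcardeq (inf_le_left.trans hMΓ)]
    congr 2
    · rw [inf_right_comm, inf_eq_right.mpr hEM]
  rw [hC (K ⊔ R), hC R, hC K, hMcard, mul_pow, mul_pow, mul_mul_mul_comm, hEcard, hIH]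
  ring

end Cfsg.Agent.FrobFixed
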